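import Groth.Agent.ProjMor.PolyAlg

/-!
# Graded algebras and relative Proj along an affine morphism
-/

set_option autoImplicit false

noncomputable section

universe u

open CategoryTheory CategoryTheory.Limits AlgebraicGeometry TopologicalSpace Opposite RelProj
open scoped HomogeneousIdeal

namespace Groth.Agent.ProjPush48

variable {X S : Scheme.{u}} (f : X ⟶ S) [IsAffineHom f] (𝒜 : QCGrAlg X)

/-- The direct image of a quasi-coherent algebra along an affine morphism. -/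
def pushQC (A : RelSpec.QCAlg X) : RelSpec.QCAlg S where
  presheaf := f.base _* A.presheaf
  isSheaf := TopCat.Sheaf.pushforward_sheaf_of_sheaf _ A.isSheaf
  str := f.c ≫ Functor.whiskerLeft (Opens.map f.base).op A.str
  isQC := by
    intro U hU r
    let inst : Algebra (A.presheaf.obj (op (f ⁻¹ᵁ U))) (A.presheaf.obj (op (f ⁻¹ᵁ S.basicOpen r))) :=
      (A.presheaf.map (homOfLE (f.preimage_mono (S.basicOpen_le r))).op).hom.toAlgebra
    change IsLocalization.Away ((A.str.app (op (f ⁻¹ᵁ U))).hom (f.app U r))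
      (A.presheaf.obj (op (f ⁻¹ᵁ S.basicOpen r)))
    have key : ∀ (V : X.Opens) (hV : V ≤ f ⁻¹ᵁ U), V = X.basicOpen (f.app U r) →
        letI := (A.presheaf.map (homOfLE hV).op).hom.toAlgebra
        IsLocalization.Away ((A.str.app (op (f ⁻¹ᵁ U))).hom (f.app U r)) (A.presheaf.obj (op V)) := by
      rintro V hV rfl
      exact A.isQC (f ⁻¹ᵁ U) (hU.preimage f) (f.app U r)
    exact key _ _ (f.preimage_basicOpen r)

/-- The direct image of a graded algebra along an affine morphism. -/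
def push : QCGrAlg S where
  toQCAlg := pushQC f 𝒜.toQCAlg
  deg U hU := 𝒜.deg (f ⁻¹ᵁ U) (hU.preimage f)
  graded U hU := 𝒜.graded (f ⁻¹ᵁ U) (hU.preimage f)
  map_mem {U V} hU hV i {d x} hx := 𝒜.map_mem (hU.preimage f) (hV.preimage f) (f.preimage_mono i) hx
  str_mem U hU r := 𝒜.str_mem (f ⁻¹ᵁ U) (hU.preimage f) (f.app U r)

theorem push_isGenDegOne (h : 𝒜.IsGenDegOne) : (push f 𝒜).IsGenDegOne :=
  fun U hU => h (f ⁻¹ᵁ U) (hU.preimage f)

theorem push_isFTDeg [IsFinite f] {d : ℕ} (h : 𝒜.IsFTDeg d) : (push f 𝒜).IsFTDeg d := by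
  classical
  intro U hU
  obtain ⟨T, hT, hgen⟩ := h (f ⁻¹ᵁ U) (hU.preimage f)
  have hfin : (f.app U).hom.Finite := IsFinite.finite_app f U hU
  algebraize [(f.app U).hom]
  obtain ⟨G, hG⟩ := (Module.finite_def.mp ‹Module.Finite Γ(S, U) Γ(X, f ⁻¹ᵁ U)›)
  let s := (𝒜.str.app (op (f ⁻¹ᵁ U))).hom
  suffices H : ∃ T' : Finset (𝒜.presheaf.obj (op (f ⁻¹ᵁ U))),
      (↑T' : Set (𝒜.presheaf.obj (op (f ⁻¹ᵁ U)))) ⊆ (𝒜.deg (f ⁻¹ᵁ U) (hU.preimage f) d : Set _) ∧
      ∀ x ∈ 𝒜.deg (f ⁻¹ᵁ U) (hU.preimage f) d, ∃ c : (𝒜.presheaf.obj (op (f ⁻¹ᵁ U))) → Γ(S, U),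
        x = ∑ t ∈ T', s ((f.app U).hom (c t)) * t from H
  refine ⟨(G ×ˢ T).image (fun gt => s gt.1 * gt.2), ?_, fun x hx => ?_⟩
  · intro y hy
    obtain ⟨⟨g, t⟩, hgt, rfl⟩ := Finset.mem_image.mp hy
    have := SetLike.mul_mem_graded (A := 𝒜.deg (f ⁻¹ᵁ U) (hU.preimage f))
      (𝒜.str_mem (f ⁻¹ᵁ U) (hU.preimage f) g) (hT (Finset.mem_product.mp hgt).2)
    rwa [zero_add] at this
  · obtain ⟨c, rfl⟩ := hgen x hx
    have hw : ∀ t, ∃ w : Γ(X, f ⁻¹ᵁ U) → Γ(S, U), ∑ g ∈ G, w g • g = c t := fun t => by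
      obtain ⟨w, -, hw⟩ := Submodule.mem_span_finset.mp (hG.ge (trivial : c t ∈ ⊤))
      exact ⟨w, hw⟩
    choose w hw using hw
    refine ⟨fun y => ∑ gt ∈ (G ×ˢ T).filter (fun gt => s gt.1 * gt.2 = y), w gt.2 gt.1, ?_⟩
    show _ = ∑ y ∈ (G ×ˢ T).image (fun gt => s gt.1 * gt.2),
      s ((f.app U).hom (∑ gt ∈ (G ×ˢ T).filter (fun gt => s gt.1 * gt.2 = y), w gt.2 gt.1)) * y
    have h1 : (∑ t ∈ T, s (c t) * t) =
        ∑ gt ∈ G ×ˢ T, s ((f.app U).hom (w gt.2 gt.1) * gt.1) * gt.2 := by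
      rw [Finset.sum_product_right]
      refine Finset.sum_congr rfl fun t _ => ?_
      show s (c t) * t = ∑ g ∈ G, s ((f.app U).hom (w t g) * g) * t
      rw [← hw t, map_sum, Finset.sum_mul]
      rfl
    refine h1.trans ?_
    rw [← Finset.sum_fiberwise_of_maps_to (g := fun gt : _ × _ => s gt.1 * gt.2)
      (t := (G ×ˢ T).image (fun gt => s gt.1 * gt.2)) (fun gt h => Finset.mem_image_of_mem _ h)]
    refine Finset.sum_congr rfl fun y _ => ?_
    rw [map_sum, map_sum, Finset.sum_mul]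
    refine Finset.sum_congr rfl fun gt hgt => ?_
    rw [map_mul, mul_assoc, (Finset.mem_filter.mp hgt).2]

variable {P : Scheme.{u}} {p : P ⟶ X}
  (chart : ∀ (V : X.Opens) (hV : IsAffineOpen V), (((p ⁻¹ᵁ V : P.Opens) : Scheme.{u}) ≅ Proj (𝒜.deg V hV)))

theorem push_isRelProj (h : IsRelProj 𝒜 p chart) :
    IsRelProj (push f 𝒜) (p ≫ f) (fun U hU => chart (f ⁻¹ᵁ U) (hU.preimage f)) := by
  refine ⟨fun U hU => ?_, fun U hU r => ?_⟩
  · have e : (push f 𝒜).strZero U hU = f.app U ≫ 𝒜.strZero (f ⁻¹ᵁ U) (hU.preimage f) := rfl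
    have e2 : Spec.map (f.app U) ≫ hU.fromSpec = (hU.preimage f).fromSpec ≫ f := by
      rw [Scheme.Hom.app_eq_appLE, IsAffineOpen.SpecMap_appLE_fromSpec f hU (hU.preimage f) le_rfl]
    have h1 := h.chart_over (f ⁻¹ᵁ U) (hU.preimage f)
    rw [e]
    erw [Spec.map_comp_assoc]
    rw [e2]
    refine Eq.trans ?_ ((reassoc_of% h1) f)
    rfl
  · have key : ∀ (V : X.Opens) (hV : IsAffineOpen V) (i : V ≤ f ⁻¹ᵁ U)
        (hirr : (𝒜.deg V hV)₊ ≤ ((𝒜.deg (f ⁻¹ᵁ U) (hU.preimage f))₊).map (𝒜.res (hU.preimage f) hV i)),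
        V = X.basicOpen (f.app U r) →
        P.homOfLE (p.preimage_mono i) ≫ (chart (f ⁻¹ᵁ U) (hU.preimage f)).hom =
          (chart V hV).hom ≫ Proj.map (𝒜.res (hU.preimage f) hV i) hirr := by
      rintro V hV i hirr rfl
      exact h.chart_res (f ⁻¹ᵁ U) (hU.preimage f) (f.app U r)
    exact key _ ((hU.basicOpen r).preimage f) _ ((push f 𝒜).irrelevant_le_map U hU r)
      (f.preimage_basicOpen r)

/-- A finite morphism after a projective morphism is projective. -/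
theorem isProjective_comp_finite {Y : Scheme.{u}} {g : Y ⟶ X} (hg : RelProj.IsProjective g) [IsFinite f] :
    RelProj.IsProjective (g ≫ f) := by
  obtain ⟨𝒜, P, p, chart, e, hgen, hft, hP, he⟩ := hg
  exact ⟨push f 𝒜, P, p ≫ f, fun U hU => chart (f ⁻¹ᵁ U) (hU.preimage f), e,
    push_isGenDegOne f 𝒜 hgen, push_isFTDeg f 𝒜 hft, push_isRelProj f 𝒜 chart hP,
    by rw [← Category.assoc, he]⟩

end Groth.Agent.ProjPush48
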